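import Mathlib
import Cfsg.Prelude.Def_Characters
import Cfsg.Prelude.Def_Blocks
import Cfsg.Prelude.Def_Local
import Cfsg.Agent.Lib.CliffordCorr
import Cfsg.Agent.H82.Extra
import Cfsg.Agent.H62.Jordan
import Cfsg.Agent.H4.IrrCount
import Cfsg.Agent.H4.Ito
import Cfsg.Agent.H4.Clifford
import Cfsg.Agent.H80.PSolvable
import Cfsg.Agent.H80.SolvPSolv

/-!
# Itô's theorem and its converse for `p`-solvable groups (lead)

* `PPrimeDeg p G` : `p` divides no irreducible character degree of `G`;
* `exists_irr_over` : every `θ ∈ Irr(N)` lies under some `χ ∈ Irr(G)`;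
* `degree_over` : `χ(1) = [G : I_G(θ)] · f · θ(1)` for `χ` over `θ`, `N` normal;
* `pPrimeDeg_normal`, `pPrimeDeg_quotient` : the hypothesis passes to normal subgroups and quotients;
* `invariant_of_pPrimeDeg` : if `G/N` is a `p`-group then every `θ ∈ Irr(N)` is `G`-invariant;
* `isConj_conj_of_invariant` : if all `θ ∈ Irr(N)` are `G`-invariant, `G` fixes every class of `N`;
* `centralizes_of_classes` : a `p`-subgroup fixing every class of the normal `p'`-subgroup `N`
  centralizes `N`;
* `sylow_normal_of_pPrimeDeg`, `comm_of_pPrimeDeg_of_isPGroup`;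
* `exists_normal_abelian_sylow` : `p`-solvable + `PPrimeDeg` gives a normal abelian Sylow `p`-subgroup;
* `pPrimeDeg_of_normal_abelian` : Itô's direction.
-/

set_option autoImplicit false
set_option linter.style.haveILetI false

namespace Cfsg.Agent.ItoConv

open Cfsg Cfsg.Agent.H4 Cfsg.Agent.Clifford
open scoped ComplexConjugate commutatorElement

universe u

/-- `p` divides no irreducible character degree of `G`. -/
def PPrimeDeg (p : ℕ) (G : Type u) [Group G] : Prop :=
  ∀ χ : IrrCharacter G, ¬ p ∣ charDegree χ.1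

variable {G : Type u} [Group G]

/-- Every irreducible character of a subgroup lies under an irreducible character of `G`. -/
theorem exists_irr_over [Fintype G] (N : Subgroup G) [Fintype N] {θ : N → ℂ}
    (hθ : IsIrrCharacter N θ) :
    ∃ χ : G → ℂ, IsIrrCharacter G χ ∧ classInner (fun n : N => χ n) θ ≠ 0 := by
  classical
  letI := fintypeIrr G
  have hA : IsCharacter G (indFun N θ) :=
    isCharacter_indFun N θ (isCharacter_of_isIrrCharacter hθ)
  have hA1 : indFun N θ 1 ≠ 0 := by
    rw [indFun_one_eq]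
    refine mul_ne_zero ?_ (Cfsg.Agent.H82.irr_one_ne_zero ⟨θ, hθ⟩)
    exact_mod_cast (Subgroup.index_ne_zero_of_finite (H := N))
  by_contra hcon
  push Not at hcon
  have hz : ∀ ψ : IrrCharacter G, classInner (indFun N θ) ψ.1 = 0 := by
    intro ψ
    rw [frobenius_reciprocity N θ ψ.1
      (isClassFunction_of_isCharacter (isCharacter_of_isIrrCharacter ψ.2))]
    have h0 := hcon ψ.1 ψ.2
    rw [← classInner_conj_symm, h0, map_zero]
  have hzero : indFun N θ = 0 := by
    have h := classFunction_eq_finsum (isClassFunction_of_isCharacter hA)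
    rw [h, finsum_irr_eq_sum]
    exact Finset.sum_eq_zero fun ψ _ => by rw [hz ψ, zero_smul]
  apply hA1
  rw [hzero]
  rfl

variable (N : Subgroup G) [hN : N.Normal]

/-- Degrees in Clifford theory: `χ(1) = [G : T] · f · θ(1)` with `T` the inertia group of `θ`. -/
theorem degree_over [Fintype G] [Fintype N] (θ : IrrCharacter N) (χ : IrrCharacter G)
    (h : classInner (fun n : N => χ.1 n) θ.1 ≠ 0) :
    ∃ f : ℕ, charDegree χ.1 = (Clifford.inertia N θ.1).index * f * charDegree θ.1 := by
  classical
  haveI : Fintype (Clifford.inertia N θ.1) := Fintype.ofFinite _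
  have hNT : N ≤ Clifford.inertia N θ.1 :=
    le_inertia N (isClassFunction_of_isCharacter (isCharacter_of_isIrrCharacter θ.2))
  obtain ⟨ψ, hψ, hind, hc⟩ := clifford_corr_surj θ.2 hNT rfl χ.2 h
  have hc' : classInner (fun n : N => ψ ⟨n, hNT n.2⟩) θ.1 ≠ 0 := by rw [hc]; exact h
  have hres := res_eq_smul_of_le_inertia θ.2 hNT le_rfl hψ hc'
  obtain ⟨f, hf⟩ := classInner_isCharacter_nat
    (χ := fun n : N => ψ ⟨n, hNT n.2⟩) (ψ := θ.1)
    (isCharacter_comp (Subgroup.inclusion hNT) (isCharacter_of_isIrrCharacter hψ))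
    (isCharacter_of_isIrrCharacter θ.2)
  refine ⟨f, ?_⟩
  have h1 : χ.1 1 = ((Clifford.inertia N θ.1).index : ℂ) * ψ 1 := by rw [← hind, indFun_one_eq]
  have h2 : ψ 1 = (f : ℂ) * θ.1 1 := by
    have h3 := congrFun hres 1
    simp only [Pi.smul_apply, smul_eq_mul] at h3
    rw [hf] at h3
    rw [← h3]
    rfl
  have h3 : ((charDegree χ.1 : ℕ) : ℂ) =
      (((Clifford.inertia N θ.1).index * f * charDegree θ.1 : ℕ) : ℂ) := by
    rw [← Cfsg.Agent.H82.irr_one_eq_charDegree χ]
    push_cast
    rw [← Cfsg.Agent.H82.irr_one_eq_charDegree θ, h1, h2]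
    ring
  exact_mod_cast h3

/-- The hypothesis passes to normal subgroups. -/
theorem pPrimeDeg_normal [Finite G] {p : ℕ} (h : PPrimeDeg p G) : PPrimeDeg p N := by
  classical
  haveI := Fintype.ofFinite G
  haveI : Fintype N := Fintype.ofFinite N
  intro θ hdvd
  obtain ⟨χ, hχ, hne⟩ := exists_irr_over N θ.2
  obtain ⟨f, hf⟩ := degree_over N θ ⟨χ, hχ⟩ hne
  exact h ⟨χ, hχ⟩ (hf ▸ Dvd.dvd.mul_left hdvd _)

/-- The hypothesis passes to quotients. -/
theorem pPrimeDeg_quotient {p : ℕ} (h : PPrimeDeg p G) : PPrimeDeg p (G ⧸ N) := by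
  intro χ hdvd
  exact h (Cfsg.Agent.H82.inflate N χ) (by rw [Cfsg.Agent.H82.charDegree_inflate]; exact hdvd)

/-- If `G/N` is a `p`-group and `p` divides no degree, every irreducible character of `N` is
`G`-invariant. -/
theorem invariant_of_pPrimeDeg [Finite G] {p : ℕ} [hp : Fact p.Prime]
    (hidx : ∃ m : ℕ, N.index = p ^ m) (h : PPrimeDeg p G) (θ : IrrCharacter N) :
    Clifford.inertia N θ.1 = ⊤ := by
  classical
  haveI := Fintype.ofFinite G
  haveI : Fintype N := Fintype.ofFinite N
  obtain ⟨χ, hχ, hne⟩ := exists_irr_over N θ.2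
  obtain ⟨f, hf⟩ := degree_over N θ ⟨χ, hχ⟩ hne
  have hNT : N ≤ Clifford.inertia N θ.1 :=
    le_inertia N (isClassFunction_of_isCharacter (isCharacter_of_isIrrCharacter θ.2))
  obtain ⟨m, hm⟩ := hidx
  have hd : (Clifford.inertia N θ.1).index ∣ p ^ m := hm ▸ Subgroup.index_dvd_of_le hNT
  obtain ⟨j, -, hj⟩ := (Nat.dvd_prime_pow hp.out).mp hd
  rcases Nat.eq_zero_or_pos j with h0 | h0
  · rw [h0, pow_zero] at hj
    exact Subgroup.index_eq_one.mp hj
  · exfalso
    apply h ⟨χ, hχ⟩
    rw [hf, hj]
    exact Dvd.dvd.mul_right (Dvd.dvd.mul_right (dvd_pow_self p h0.ne') _) _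

/-- If every irreducible character of `N` is `G`-invariant, then `G` fixes every conjugacy class
of `N`. -/
theorem isConj_conj_of_invariant [Finite G]
    (h : ∀ θ : IrrCharacter N, Clifford.inertia N θ.1 = ⊤) (g : G) (n : N) :
    IsConj n (⟨g * n * g⁻¹, hN.conj_mem n n.2 g⟩ : N) := by
  rw [isConj_iff_irr]
  intro θ
  have hg : g ∈ Clifford.inertia N θ.1 := by rw [h θ]; trivial
  exact ((mem_inertia_iff N).mp hg n).symm

/-- A `p`-subgroup fixing every conjugacy class of the normal `p'`-subgroup `N` centralizes `N`. -/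
theorem centralizes_of_classes [Finite G] {p : ℕ} [hp : Fact p.Prime]
    (P : Subgroup G) (hP : IsPGroup p P) (hcop : (Nat.card N).Coprime p)
    (hcl : ∀ (g : G) (n : N), IsConj n (⟨g * n * g⁻¹, hN.conj_mem n n.2 g⟩ : N)) :
    ∀ x ∈ P, ∀ n ∈ N, x * n = n * x := by
  classical
  set M : Subgroup N := (Subgroup.centralizer (P : Set G)).subgroupOf N with hM
  by_cases hMtop : M = ⊤
  · intro x hx n hn
    have hmem : (⟨n, hn⟩ : N) ∈ M := by rw [hMtop]; trivial
    rw [hM, Subgroup.mem_subgroupOf, Subgroup.mem_centralizer_iff] at hmem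
    exact hmem x hx
  · exfalso
    obtain ⟨n₀, hn₀⟩ := Cfsg.Agent.H62.exists_not_conj_mem M hMtop
    -- the class of `n₀`, as an orbit
    set X : Set N := MulAction.orbit (ConjAct N) n₀ with hX
    have hmemX : ∀ y : N, y ∈ X ↔ IsConj y n₀ := fun y => ConjAct.mem_orbit_conjAct
    have hsm : ∀ (x : P) (y : X),
        (⟨(x : G) * (y.1 : G) * (x : G)⁻¹, hN.conj_mem _ y.1.2 _⟩ : N) ∈ X := by
      intro x y
      rw [hmemX]
      exact (hcl (x : G) y.1).symm.trans ((hmemX y.1).mp y.2)
    letI : MulAction P X :=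
      { smul := fun x y => ⟨⟨(x : G) * (y.1 : G) * (x : G)⁻¹, hN.conj_mem _ y.1.2 _⟩, hsm x y⟩
        one_smul := fun y => by
          apply Subtype.ext
          apply Subtype.ext
          show ((1 : P) : G) * (y.1 : G) * ((1 : P) : G)⁻¹ = (y.1 : G)
          simp
        mul_smul := fun x x' y => by
          apply Subtype.ext
          apply Subtype.ext
          show ((x * x' : P) : G) * (y.1 : G) * ((x * x' : P) : G)⁻¹ =
            (x : G) * ((x' : G) * (y.1 : G) * (x' : G)⁻¹) * (x : G)⁻¹
          simp [mul_assoc] }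
    have hcard : Nat.card X ∣ Nat.card N := by
      have h1 : Nat.card X = (MulAction.stabilizer (ConjAct N) n₀).index := by
        rw [MulAction.index_stabilizer, Nat.card_coe_set_eq]
      rw [h1]
      have h2 := Subgroup.index_dvd_card (MulAction.stabilizer (ConjAct N) n₀)
      rwa [Nat.card_congr (ConjAct.toConjAct (G := N)).symm.toEquiv] at h2
    have hnd : ¬ p ∣ Nat.card X := by
      intro hdvd
      have h1 : p ∣ Nat.card N := dvd_trans hdvd hcard
      have h2 := Nat.Coprime.eq_one_of_dvd hcop.symm h1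
      exact hp.out.one_lt.ne' h2
    haveI : Finite X := Set.Finite.to_subtype (Set.toFinite X)
    obtain ⟨y, hy⟩ := hP.nonempty_fixed_point_of_prime_not_dvd_card X hnd
    rw [MulAction.mem_fixedPoints] at hy
    have hyM : y.1 ∈ M := by
      rw [hM, Subgroup.mem_subgroupOf, Subgroup.mem_centralizer_iff]
      intro x hx
      have h1 := congrArg (fun z : X => ((z.1 : N) : G)) (hy ⟨x, hx⟩)
      have h2 : x * (y.1 : G) * x⁻¹ = (y.1 : G) := h1
      calc x * (y.1 : G) = x * (y.1 : G) * x⁻¹ * x := by group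
        _ = (y.1 : G) * x := by rw [h2]
    obtain ⟨c, hc⟩ := isConj_iff.mp ((hmemX y.1).mp y.2)
    apply hn₀ c
    have : c⁻¹ * n₀ * c = y.1 := by rw [← hc]; group
    rw [this]
    exact hyM

/-- With a normal `p'`-subgroup `N` of `p`-power index and `p` dividing no degree, the Sylow
`p`-subgroups are normal. -/
theorem sylow_normal_of_pPrimeDeg [Finite G] {p : ℕ} [hp : Fact p.Prime]
    (hcop : (Nat.card N).Coprime p) (hidx : ∃ m : ℕ, N.index = p ^ m) (h : PPrimeDeg p G)
    (P : Sylow p G) : (P : Subgroup G).Normal := by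
  have hinv := fun θ => invariant_of_pPrimeDeg N hidx h θ
  have hcl := isConj_conj_of_invariant N hinv
  have hcent := centralizes_of_classes N (P : Subgroup G) P.isPGroup' hcop hcl
  have hNle : N ≤ Subgroup.normalizer ((P : Subgroup G) : Set G) := by
    intro n hn
    rw [Subgroup.mem_normalizer_iff]
    intro x
    constructor
    · intro hx
      have h1 := hcent x hx n hn
      have h2 : n * x * n⁻¹ = x := by rw [← h1]; group
      rw [h2]; exact hx
    · intro hx
      have h1 : n * x * n⁻¹ * n = n * (n * x * n⁻¹) := hcent _ hx n hn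
      have h3 : n * x = n * (n * x * n⁻¹) := by rw [← h1]; group
      have e : x = n * x * n⁻¹ := mul_left_cancel h3
      rw [e]; exact hx
  have htop : N ⊔ (P : Subgroup G) = ⊤ := by
    apply Subgroup.index_eq_one.mp
    obtain ⟨m, hm⟩ := hidx
    have h1 : (N ⊔ (P : Subgroup G)).index ∣ p ^ m := hm ▸ Subgroup.index_dvd_of_le le_sup_left
    have h2 : (N ⊔ (P : Subgroup G)).index ∣ (P : Subgroup G).index :=
      Subgroup.index_dvd_of_le le_sup_right
    have h3 : ¬ p ∣ (P : Subgroup G).index := P.not_dvd_index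
    obtain ⟨j, -, hj⟩ := (Nat.dvd_prime_pow hp.out).mp h1
    rcases Nat.eq_zero_or_pos j with h0 | h0
    · rw [hj, h0, pow_zero]
    · exfalso
      apply h3
      exact dvd_trans (hj ▸ dvd_pow_self p h0.ne') h2
  rw [← Subgroup.normalizer_eq_top_iff, eq_top_iff, ← htop]
  exact sup_le hNle Subgroup.le_normalizer

/-- A `p`-group none of whose irreducible character degrees is divisible by `p` is abelian. -/
theorem comm_of_pPrimeDeg_of_isPGroup [Finite G] {p : ℕ} [hp : Fact p.Prime] (hG : IsPGroup p G)
    (h : PPrimeDeg p G) : ∀ a b : G, a * b = b * a := by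
  classical
  letI := fintypeIrr G
  have hlin : ∀ χ : IrrCharacter G, charDegree χ.1 = 1 := by
    intro χ
    by_contra hne
    exact h χ ((Cfsg.Agent.H82.dvd_charDegree_iff_of_isPGroup hG χ).mpr hne)
  have hsum := Cfsg.Agent.H82.index_add_sum_nonlinear (G := G)
  have hempty : Finset.univ.filter (fun χ : IrrCharacter G => ¬ charDegree χ.1 = 1) = ∅ := by
    apply Finset.filter_eq_empty_iff.mpr
    intro χ _
    simp [hlin χ]
  rw [hempty, Finset.sum_empty, add_zero] at hsum
  have hcard : Nat.card (commutator G) = 1 := by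
    have h1 := Subgroup.card_mul_index (commutator G)
    rw [hsum] at h1
    have hpos : 0 < Nat.card G := Nat.card_pos
    exact Nat.eq_of_mul_eq_mul_right hpos (by rw [h1, one_mul])
  have hbot : commutator G = ⊥ := Subgroup.eq_bot_of_card_eq _ hcard
  intro a b
  have hmem : ⁅a, b⁆ ∈ commutator G := by
    rw [commutator_def]
    exact Subgroup.commutator_mem_commutator (Subgroup.mem_top a) (Subgroup.mem_top b)
  rw [hbot, Subgroup.mem_bot] at hmem
  exact commutatorElement_eq_one_iff_mul_comm.mp hmem

/-- A normal `p`-subgroup of a group with no irreducible degree divisible by `p` is abelian. -/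
theorem comm_of_normal_isPGroup [Finite G] {p : ℕ} [hp : Fact p.Prime] (P : Subgroup G)
    [P.Normal] (hP : IsPGroup p P) (h : PPrimeDeg p G) : ∀ a ∈ P, ∀ b ∈ P, a * b = b * a := by
  intro a ha b hb
  have := comm_of_pPrimeDeg_of_isPGroup hP (pPrimeDeg_normal P h) ⟨a, ha⟩ ⟨b, hb⟩
  exact congrArg Subtype.val this

/-- Itô's direction: a normal abelian subgroup of index prime to `p` forces all irreducible
degrees to be prime to `p`. -/
theorem pPrimeDeg_of_normal_abelian [Finite G] {p : ℕ} (P : Subgroup G) [P.Normal]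
    (hab : ∀ a ∈ P, ∀ b ∈ P, a * b = b * a) (hidx : ¬ p ∣ P.index) : PPrimeDeg p G := by
  intro χ hdvd
  obtain ⟨n, ρ, hirr, hχ, hn, h1, h2⟩ := Cfsg.Agent.H82.irr_rep χ
  haveI := hirr
  have h3 := Cfsg.Agent.H4.ito_dvd_index ρ P hab
  rw [Module.finrank_fin_fun] at h3
  rw [h2] at hdvd
  exact hidx (dvd_trans hdvd h3)

/-- Converse of Itô's theorem for `p`-solvable groups: if `p` divides no irreducible character
degree then `G` has a normal abelian Sylow `p`-subgroup. -/
theorem exists_normal_abelian_sylow (p : ℕ) [hp : Fact p.Prime] :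
    ∀ (n : ℕ) (G : Type u) [Group G] [Finite G], Nat.card G = n → IsPSolvable p G →
      PPrimeDeg p G →
      ∃ P : Subgroup G, P.Normal ∧ IsPGroup p P ∧ ¬ p ∣ P.index ∧
        ∀ a ∈ P, ∀ b ∈ P, a * b = b * a := by
  intro n
  induction n using Nat.strong_induction_on with
  | _ n ih =>
    intro G _ _ hn hsolv h
    by_cases htriv : Subsingleton G
    · refine ⟨⊥, inferInstance, IsPGroup.of_bot, ?_, ?_⟩
      · rw [Subgroup.index_bot, Nat.card_of_subsingleton (1 : G)]
        exact fun h1 => hp.out.one_lt.ne' (Nat.dvd_one.mp h1)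
      · intro a _ b _
        exact Subsingleton.elim _ _
    · rw [not_subsingleton_iff_nontrivial] at htriv
      have hsolv' := hsolv
      obtain ⟨k, H, h0, hlast, hmono, hnorm, hfac⟩ := hsolv
      have hex : ∃ i : Fin k, H i.castSucc = ⊥ ∧ H i.succ ≠ ⊥ := by
        by_contra hcon
        push Not at hcon
        have hall : ∀ i : Fin (k + 1), H i = ⊥ :=
          fun i => Fin.induction h0 (fun i ih => hcon i ih) i
        have hl := hall (Fin.last k)
        rw [hlast] at hl
        exact top_ne_bot hl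
      obtain ⟨i, hi0, hi1⟩ := hex
      set M := H i.succ with hMdef
      haveI : M.Normal := hnorm i.succ
      have hMcard : (∃ m : ℕ, Nat.card M = p ^ m) ∨ (Nat.card M).Coprime p := by
        have hf := hfac i
        rw [hi0, Subgroup.relIndex_bot_left] at hf
        exact hf
      have hlt : Nat.card (G ⧸ M) < n := by
        have h1 := Subgroup.card_mul_index M
        rw [hn] at h1
        have h2 : 1 < Nat.card M := M.one_lt_card_iff_ne_bot.mpr hi1
        have h3 : M.index = Nat.card (G ⧸ M) := rfl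
        rw [← h3]
        have hpos : 0 < M.index := Nat.pos_of_ne_zero Subgroup.index_ne_zero_of_finite
        nlinarith
      obtain ⟨Pbar, hPn, hPp, hPi, -⟩ := ih _ hlt (G ⧸ M) rfl
        (Cfsg.Agent.H80.isPSolvable_quotient p M hsolv') (pPrimeDeg_quotient M h)
      set L := Pbar.comap (QuotientGroup.mk' M) with hL
      haveI : L.Normal := Subgroup.Normal.comap hPn _
      have hML : M ≤ L := by
        intro x hx
        rw [hL, Subgroup.mem_comap]
        have h1 : (QuotientGroup.mk' M) x = 1 := (QuotientGroup.eq_one_iff x).mpr hx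
        rw [h1]
        exact Pbar.one_mem
      have hLidx : ¬ p ∣ L.index := by
        rw [hL, Subgroup.index_comap_of_surjective Pbar (QuotientGroup.mk'_surjective M)]
        exact hPi
      have hLcard : Nat.card L = Nat.card M * Nat.card Pbar :=
        Cfsg.Agent.H80.card_comap_mk' M Pbar
      obtain ⟨a, ha⟩ := IsPGroup.iff_card.mp hPp
      rcases hMcard with ⟨m, hm⟩ | hcop
      · have hLp : IsPGroup p L :=
          IsPGroup.of_card (n := m + a) (by rw [hLcard, hm, ha, pow_add])
        exact ⟨L, inferInstance, hLp, hLidx, comm_of_normal_isPGroup L hLp h⟩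
      · have hL' : PPrimeDeg p L := pPrimeDeg_normal L h
        set M' : Subgroup L := M.subgroupOf L with hM'
        haveI : M'.Normal := Subgroup.normal_subgroupOf
        have hM'card : Nat.card M' = Nat.card M :=
          Nat.card_congr (Subgroup.subgroupOfEquivOfLe hML).toEquiv
        have hM'idx : M'.index = p ^ a := by
          have h1 : M'.index = M.relIndex L := rfl
          have h2 := Cfsg.Agent.H80.card_eq_card_mul_relIndex hML
          rw [hLcard] at h2
          have hpos : 0 < Nat.card M := Nat.card_pos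
          rw [h1, ← ha]
          exact (Nat.eq_of_mul_eq_mul_left hpos h2).symm
        obtain ⟨S⟩ := (inferInstance : Nonempty (Sylow p L))
        have hSn : (S : Subgroup L).Normal :=
          sylow_normal_of_pPrimeDeg M' (by rw [hM'card]; exact hcop) ⟨a, hM'idx⟩ hL' S
        haveI : (S : Subgroup L).Characteristic := Sylow.characteristic_of_normal S hSn
        haveI hPn' : ((S : Subgroup L).map L.subtype).Normal :=
          ConjAct.normal_of_characteristic_of_normal
        refine ⟨(S : Subgroup L).map L.subtype, hPn', S.isPGroup'.map _, ?_, ?_⟩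
        · rw [Subgroup.index_map_subtype]
          intro hdvd
          rcases (Nat.Prime.dvd_mul hp.out).mp hdvd with h1 | h1
          · exact S.not_dvd_index h1
          · exact hLidx h1
        · exact comm_of_normal_isPGroup _ (S.isPGroup'.map _) h

end Cfsg.Agent.ItoConv
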