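import Mathlib
import Cfsg.Prelude.Def_Characters
import Cfsg.Prelude.Def_Blocks
import Cfsg.Prelude.Def_Transfer
import Cfsg.Agent.Lib.ItoConv
import Cfsg.Agent.H82.Extra
import Cfsg.Agent.H82.Triv
import Cfsg.Agent.H2.Tate
import Cfsg.Agent.H53.PRes

/-!
# Thompson's theorem on character degrees (lead)

If `p` divides the degree of every nonlinear irreducible character of `G`, then `G` has a normal
`p`-complement (Isaacs 12.2).  Proof: the permutation characters `(1_H)^G` give
`[G:H] ≡ [G:G'H] (mod p)` (`index_modEq`); applied to the maximal subgroups of a Sylow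
`p`-subgroup `P` this yields `P ∩ O^p(G) ≤ Φ(P)`, and Tate's theorem (helper2, `H2.tate_sylow`)
finishes (`pResidual_inf_sylow_eq_bot`, `thompson`).
-/

set_option autoImplicit false
set_option linter.style.haveILetI false

namespace Cfsg.Agent.ThompsonDeg

open Cfsg Cfsg.Agent.H4 Cfsg.Agent.Clifford
open scoped ComplexConjugate commutatorElement

universe u

variable {G : Type u} [Group G]

/-- A subgroup containing the commutator subgroup is normal. -/
theorem normal_of_commutator_le (A : Subgroup G) (hA : commutator G ≤ A) : A.Normal := by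
  constructor
  intro n hn g
  have h1 : ⁅g, n⁆ ∈ A := hA (by
    rw [commutator_def]
    exact Subgroup.commutator_mem_commutator (Subgroup.mem_top g) (Subgroup.mem_top n))
  have h2 : g * n * g⁻¹ = ⁅g, n⁆ * n := by rw [commutatorElement_def]; group
  rw [h2]
  exact A.mul_mem h1 hn

/-- The quotient by a subgroup containing the commutator subgroup is commutative. -/
theorem mk_commute (A : Subgroup G) [A.Normal] (hA : commutator G ≤ A) (a b : G) :
    Commute (QuotientGroup.mk a : G ⧸ A) (QuotientGroup.mk b) := by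
  show (QuotientGroup.mk a : G ⧸ A) * QuotientGroup.mk b = QuotientGroup.mk b * QuotientGroup.mk a
  rw [← QuotientGroup.mk_mul, ← QuotientGroup.mk_mul, QuotientGroup.eq]
  have h1 : ⁅b⁻¹, a⁻¹⁆ ∈ A := hA (by
    rw [commutator_def]
    exact Subgroup.commutator_mem_commutator (Subgroup.mem_top _) (Subgroup.mem_top _))
  have h2 : (a * b)⁻¹ * (b * a) = ⁅b⁻¹, a⁻¹⁆ := by rw [commutatorElement_def]; group
  rw [h2]
  exact h1

theorem one_of_charDegree {χ : IrrCharacter G} (h : charDegree χ.1 = 1) : χ.1 1 = 1 := by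
  rw [Cfsg.Agent.H82.irr_one_eq_charDegree, h]
  simp

/-- The kernel of a linear character contains the commutator subgroup. -/
theorem commutator_le_irrKer [Finite G] (χ : IrrCharacter G) (h1 : χ.1 1 = 1) :
    commutator G ≤ Cfsg.Agent.H82.irrKer χ := by
  rw [commutator_def, Subgroup.commutator_le]
  intro a _ b _
  have ha : χ.1 a * χ.1 a⁻¹ = 1 := by
    rw [← Cfsg.Agent.H82.irr_linear_mul χ h1, mul_inv_cancel, h1]
  have hb : χ.1 b * χ.1 b⁻¹ = 1 := by
    rw [← Cfsg.Agent.H82.irr_linear_mul χ h1, mul_inv_cancel, h1]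
  rw [Cfsg.Agent.H82.mem_irrKer, commutatorElement_def, Cfsg.Agent.H82.irr_linear_mul χ h1,
    Cfsg.Agent.H82.irr_linear_mul χ h1, Cfsg.Agent.H82.irr_linear_mul χ h1, h1]
  calc χ.1 a * χ.1 b * χ.1 a⁻¹ * χ.1 b⁻¹ = (χ.1 a * χ.1 a⁻¹) * (χ.1 b * χ.1 b⁻¹) := by ring
    _ = 1 := by rw [ha, hb, mul_one]

/-- The number of linear characters of `G` trivial on `H` is `[G : G'H]`. -/
theorem card_linear_trivial [Finite G] (H : Subgroup G) :
    Nat.card {χ : IrrCharacter G // charDegree χ.1 = 1 ∧ ∀ h ∈ H, χ.1 h = 1} =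
      (commutator G ⊔ H).index := by
  classical
  set A := commutator G ⊔ H with hA
  haveI : A.Normal := normal_of_commutator_le A le_sup_left
  letI := fintypeIrr (G ⧸ A)
  have e : {ψ : IrrCharacter (G ⧸ A) // charDegree ψ.1 = 1} ≃
      {χ : IrrCharacter G // charDegree χ.1 = 1 ∧ ∀ h ∈ H, χ.1 h = 1} := by
    refine Equiv.ofBijective
      (fun ψ => ⟨Cfsg.Agent.H82.inflate A ψ.1,
        by rw [Cfsg.Agent.H82.charDegree_inflate]; exact ψ.2, fun h hh => ?_⟩) ⟨?_, ?_⟩
    · rw [Cfsg.Agent.H82.inflate_mem A ψ.1 h ((le_sup_right : H ≤ commutator G ⊔ H) hh)]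
      exact one_of_charDegree (by rw [Cfsg.Agent.H82.charDegree_inflate]; exact ψ.2)
    · intro a b hab
      apply Subtype.ext
      exact Cfsg.Agent.H82.inflate_injective A (congrArg (fun x => x.1) hab)
    · rintro ⟨χ, h1, h2⟩
      have hχ1 := one_of_charDegree h1
      have hker : A ≤ Cfsg.Agent.H82.irrKer χ :=
        sup_le (commutator_le_irrKer χ hχ1)
          (fun h hh => by rw [Cfsg.Agent.H82.mem_irrKer, h2 h hh, hχ1])
      obtain ⟨χ', h'⟩ := Cfsg.Agent.H82.exists_deflate A χ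
        (fun x hx => (Cfsg.Agent.H82.mem_irrKer χ x).mp (hker hx))
      refine ⟨⟨χ', by rw [← Cfsg.Agent.H82.charDegree_inflate A χ', h']; exact h1⟩, ?_⟩
      apply Subtype.ext
      exact h'
  rw [← Nat.card_congr e]
  have hcomm : commutator (G ⧸ A) = ⊥ := by
    rw [commutator_def, Subgroup.commutator_eq_bot_iff_le_centralizer]
    intro x _
    rw [Subgroup.mem_centralizer_iff]
    intro y _
    obtain ⟨a, rfl⟩ := QuotientGroup.mk_surjective x
    obtain ⟨b, rfl⟩ := QuotientGroup.mk_surjective y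
    exact mk_commute A le_sup_left b a
  have h3 := Cfsg.Agent.H82.card_filter_linear (G := G ⧸ A)
  rw [hcomm, Subgroup.index_bot] at h3
  rw [Nat.card_eq_fintype_card, Fintype.card_subtype, h3]
  rfl

/-- If `p` divides every nonlinear irreducible degree, then `[G:H] ≡ [G:G'H] (mod p)`. -/
theorem index_modEq [Finite G] {p : ℕ}
    (hdeg : ∀ χ : IrrCharacter G, charDegree χ.1 ≠ 1 → p ∣ charDegree χ.1) (H : Subgroup G) :
    H.index ≡ (commutator G ⊔ H).index [MOD p] := by
  classical
  haveI := Fintype.ofFinite G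
  letI := fintypeIrr G
  haveI : Fintype H := Fintype.ofFinite H
  set π : G → ℂ := indFun H (fun _ : H => (1 : ℂ)) with hπdef
  have htriv : (Cfsg.Agent.H82.trivChar H).1 = fun _ : H => (1 : ℂ) :=
    funext (fun h => Cfsg.Agent.H82.trivChar_apply h)
  have hπ : IsCharacter G π :=
    isCharacter_indFun H _ (htriv ▸ isCharacter_of_isIrrCharacter (Cfsg.Agent.H82.trivChar H).2)
  have hnat : ∀ χ : IrrCharacter G, ∃ n : ℕ, classInner π χ.1 = n :=
    fun χ => classInner_isCharacter_nat hπ (isCharacter_of_isIrrCharacter χ.2)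
  choose m hm using hnat
  have hdegsum : H.index = ∑ χ : IrrCharacter G, m χ * charDegree χ.1 := by
    have h1 : π 1 = (H.index : ℂ) := by rw [hπdef, indFun_one_eq, mul_one]
    have h2 := congrFun (classFunction_eq_finsum (isClassFunction_of_isCharacter hπ)) 1
    rw [finsum_irr_eq_sum, Finset.sum_apply, h1] at h2
    have h3 : ((H.index : ℕ) : ℂ) = ((∑ χ : IrrCharacter G, m χ * charDegree χ.1 : ℕ) : ℂ) := by
      rw [h2]
      push_cast
      refine Finset.sum_congr rfl fun χ _ => ?_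
      rw [Pi.smul_apply, smul_eq_mul, hm χ, Cfsg.Agent.H82.irr_one_eq_charDegree]
    exact_mod_cast h3
  have hlin : ∀ χ : IrrCharacter G, charDegree χ.1 = 1 →
      m χ = if (∀ h ∈ H, χ.1 h = 1) then 1 else 0 := by
    intro χ h1
    have hχ1 := one_of_charDegree h1
    have hfr := frobenius_reciprocity H (fun _ : H => (1 : ℂ)) χ.1
      (isClassFunction_of_isCharacter (isCharacter_of_isIrrCharacter χ.2))
    set f : H →* ℂˣ := (Cfsg.Agent.H82.irrLinearHom χ hχ1).comp H.subtype with hf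
    have hres : (fun h : H => χ.1 h) = (Cfsg.Agent.H82.linChar f).1 := by
      funext h
      rfl
    rw [hres, ← htriv, classInner_irr_irr (Cfsg.Agent.H82.trivChar H).2
      (Cfsg.Agent.H82.linChar f).2] at hfr
    have hiff : ((Cfsg.Agent.H82.trivChar H).1 = (Cfsg.Agent.H82.linChar f).1) ↔
        ∀ h ∈ H, χ.1 h = 1 := by
      constructor
      · intro heq h hh
        have h5 := congrFun heq ⟨h, hh⟩
        rw [Cfsg.Agent.H82.trivChar_apply] at h5
        exact h5.symm
      · intro hall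
        funext h
        rw [Cfsg.Agent.H82.trivChar_apply]
        exact (hall h h.2).symm
    have h4 : (m χ : ℂ) = if (∀ h ∈ H, χ.1 h = 1) then 1 else 0 := by
      rw [← hm χ, hπdef, ← htriv, hfr]
      by_cases hc : ∀ h ∈ H, χ.1 h = 1
      · rw [if_pos hc, if_pos (hiff.mpr hc)]
      · rw [if_neg hc, if_neg (fun h => hc (hiff.mp h))]
    by_cases hc : ∀ h ∈ H, χ.1 h = 1
    · rw [if_pos hc] at h4 ⊢
      exact_mod_cast h4
    · rw [if_neg hc] at h4 ⊢
      exact_mod_cast h4
  rw [hdegsum, ← card_linear_trivial H, Nat.card_eq_fintype_card, Fintype.card_subtype,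
    Finset.card_eq_sum_ones, Finset.sum_filter, ← ZMod.natCast_eq_natCast_iff]
  push_cast
  refine Finset.sum_congr rfl fun χ _ => ?_
  by_cases h1 : charDegree χ.1 = 1
  · rw [h1, hlin χ h1]
    by_cases hc : ∀ h ∈ H, χ.1 h = 1 <;> simp
  · have h2 : ((charDegree χ.1 : ℕ) : ZMod p) = 0 :=
      (ZMod.natCast_eq_zero_iff _ _).mpr (hdeg χ h1)
    rw [h2, mul_zero, if_neg (fun h => h1 h.1)]

/-- Elements of `O^p(G)` have a `p'`-power in any subgroup containing `G'`. -/
theorem exists_coprime_pow_mem {p : ℕ} (A : Subgroup G) [A.Normal] (hA : commutator G ≤ A)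
    {x : G} (hx : x ∈ pResidual p G) : ∃ m : ℕ, m.Coprime p ∧ x ^ m ∈ A := by
  unfold pResidual at hx
  induction hx using Subgroup.closure_induction with
  | mem y hy => exact ⟨orderOf y, hy, by rw [pow_orderOf_eq_one]; exact A.one_mem⟩
  | one => exact ⟨1, Nat.coprime_one_left p, by simp⟩
  | mul a b _ _ ha hb =>
    obtain ⟨m, hm, ham⟩ := ha
    obtain ⟨n, hn, hbn⟩ := hb
    refine ⟨m * n, Nat.Coprime.mul_left hm hn, ?_⟩
    rw [← QuotientGroup.eq_one_iff, QuotientGroup.mk_pow, QuotientGroup.mk_mul,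
      (mk_commute A hA a b).mul_pow]
    have h1 : (QuotientGroup.mk a : G ⧸ A) ^ (m * n) = 1 := by
      rw [pow_mul, ← QuotientGroup.mk_pow, (QuotientGroup.eq_one_iff _).mpr ham, one_pow]
    have h2 : (QuotientGroup.mk b : G ⧸ A) ^ (m * n) = 1 := by
      rw [mul_comm, pow_mul, ← QuotientGroup.mk_pow, (QuotientGroup.eq_one_iff _).mpr hbn,
        one_pow]
    rw [h1, h2, mul_one]
  | inv a _ ha =>
    obtain ⟨m, hm, ham⟩ := ha
    exact ⟨m, hm, by rw [inv_pow]; exact A.inv_mem ham⟩

/-- Under Thompson's hypothesis, `O^p(G)` meets a Sylow `p`-subgroup trivially. -/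
theorem pResidual_inf_sylow_eq_bot [Finite G] {p : ℕ} [hp : Fact p.Prime]
    (hdeg : ∀ χ : IrrCharacter G, charDegree χ.1 ≠ 1 → p ∣ charDegree χ.1) (P : Sylow p G) :
    pResidual p G ⊓ (P : Subgroup G) = ⊥ := by
  apply Cfsg.Agent.H2.tate_sylow P
  rintro x ⟨hxR, hxP⟩
  refine ⟨⟨x, hxP⟩, ?_, rfl⟩
  show (⟨x, hxP⟩ : (P : Subgroup G)) ∈ frattini (P : Subgroup G)
  unfold frattini Order.radical
  rw [Subgroup.mem_iInf]
  intro M₀
  rw [Subgroup.mem_iInf]
  intro hM₀
  have hco : IsCoatom M₀ := hM₀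
  set P₀ : Subgroup G := M₀.map (P : Subgroup G).subtype with hP₀
  set A : Subgroup G := commutator G ⊔ P₀ with hAdef
  haveI : A.Normal := normal_of_commutator_le A le_sup_left
  have hmod := index_modEq hdeg P₀
  have hpP₀ : p ∣ P₀.index := by
    rw [hP₀, Subgroup.index_map_subtype]
    apply Dvd.dvd.mul_right
    have h1 : M₀.index ≠ 1 := fun h => hco.1 (Subgroup.index_eq_one.mp h)
    have h2 : M₀.index ∣ Nat.card (P : Subgroup G) := Subgroup.index_dvd_card M₀
    obtain ⟨k, hk⟩ := IsPGroup.iff_card.mp P.isPGroup'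
    rw [hk] at h2
    obtain ⟨j, -, hj⟩ := (Nat.dvd_prime_pow hp.out).mp h2
    rw [hj] at h1 ⊢
    rcases Nat.eq_zero_or_pos j with h0 | h0
    · rw [h0, pow_zero] at h1
      exact absurd rfl h1
    · exact dvd_pow_self p h0.ne'
  have hpA : p ∣ A.index := (Nat.ModEq.dvd_iff hmod (dvd_refl p)).mp hpP₀
  have hPA : ¬ (P : Subgroup G) ≤ A := fun hle =>
    P.not_dvd_index (dvd_trans hpA (Subgroup.index_dvd_of_le hle))
  set B : Subgroup (P : Subgroup G) := (A ⊓ (P : Subgroup G)).subgroupOf (P : Subgroup G) with hB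
  have hM₀B : M₀ ≤ B := by
    intro y hy
    rw [hB, Subgroup.mem_subgroupOf]
    exact ⟨(le_sup_right : P₀ ≤ A) (Subgroup.mem_map_of_mem _ hy), y.2⟩
  have hBtop : B ≠ ⊤ := by
    intro hBt
    apply hPA
    intro z hz
    have h1 : (⟨z, hz⟩ : (P : Subgroup G)) ∈ B := by rw [hBt]; trivial
    rw [hB, Subgroup.mem_subgroupOf] at h1
    exact h1.1
  have hBM : B = M₀ := (hco.le_iff.mp hM₀B).resolve_left hBtop
  rw [← hBM, hB, Subgroup.mem_subgroupOf]
  refine ⟨?_, hxP⟩
  obtain ⟨m, hm, hxm⟩ := exists_coprime_pow_mem A le_sup_left hxR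
  refine Cfsg.Agent.H53.mem_of_pow_mem_of_coprime ?_ hxm
  obtain ⟨j, hj⟩ := (IsPGroup.iff_orderOf.mp P.isPGroup') ⟨x, hxP⟩
  have hord : orderOf x = p ^ j := by
    rw [← hj]
    exact (Subgroup.orderOf_mk x hxP).symm
  rw [hord]
  exact Nat.Coprime.pow_right j hm

/-- **Thompson**: if `p` divides every nonlinear irreducible character degree, `G` has a normal
`p`-complement, namely `O^p(G)`. -/
theorem thompson [Finite G] (p : ℕ) (hp : p.Prime)
    (hdeg : ∀ χ : IrrCharacter G, charDegree χ.1 ≠ 1 → p ∣ charDegree χ.1) :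
    ∃ N : Subgroup G, N.Normal ∧ (Nat.card N).Coprime p ∧ ∃ k : ℕ, N.index = p ^ k := by
  haveI : Fact p.Prime := ⟨hp⟩
  obtain ⟨P⟩ := (inferInstance : Nonempty (Sylow p G))
  have hbot := pResidual_inf_sylow_eq_bot hdeg P
  haveI hn : (pResidual p G).Normal := Cfsg.Agent.H2.pResidual_normal p
  refine ⟨pResidual p G, hn, ?_, ?_⟩
  · have h1 : Nat.card (pResidual p G ⊔ (P : Subgroup G) : Subgroup G) =
        Nat.card (pResidual p G) * (pResidual p G).relIndex (pResidual p G ⊔ (P : Subgroup G)) :=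
      Cfsg.Agent.H80.card_eq_card_mul_relIndex le_sup_left
    have h2 : (pResidual p G).relIndex (pResidual p G ⊔ (P : Subgroup G)) =
        Nat.card (P : Subgroup G) := by
      rw [Subgroup.relIndex_sup_left]
      have h3 : (pResidual p G).subgroupOf (P : Subgroup G) = ⊥ := by
        rw [Subgroup.subgroupOf_eq_bot, disjoint_iff]
        exact hbot
      show ((pResidual p G).subgroupOf (P : Subgroup G)).index = _
      rw [h3, Subgroup.index_bot]
    rw [h2] at h1
    have h4 : Nat.card (pResidual p G) * Nat.card (P : Subgroup G) ∣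
        Nat.card (P : Subgroup G) * (P : Subgroup G).index := by
      rw [Subgroup.card_mul_index, ← h1]
      exact Subgroup.card_subgroup_dvd_card _
    have hpos : 0 < Nat.card (P : Subgroup G) := Nat.card_pos
    have h5 : Nat.card (pResidual p G) ∣ (P : Subgroup G).index := by
      rw [mul_comm] at h4
      exact Nat.dvd_of_mul_dvd_mul_left hpos h4
    have h6 : ((P : Subgroup G).index).Coprime p :=
      (Nat.Coprime.symm ((Nat.Prime.coprime_iff_not_dvd hp).mpr P.not_dvd_index))
    exact Nat.Coprime.coprime_dvd_left h5 h6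
  · exact IsPGroup.iff_card.mp (Cfsg.Agent.H2.isPGroup_quotient_pResidual p)

end Cfsg.Agent.ThompsonDeg
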